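import Cfsg.Agent.Co2Type.Co2Gen
import Cfsg.Agent.Bimonster.Tits
import Cfsg.Agent.H136.Gen2.Cox

/-!
# 2-generation of `Co₂` (helper136)

In the presentation of `Co₂` on `a, …, i`, the letters `a, …, f` form a diagram `E₆` and commute with `h`; `g` commutes
with `a`, `c`.  With `u = d b e f` (order 5) and `t = a c` (order 3), `⟨u, t⟩` is the even subgroup of `W(E₆)`, and
`Co₂ = ⟨h u, g t⟩`.
-/

set_option autoImplicit false

namespace Cfsg.Agent.H136.Gen2.Co2

open Subgroup Cfsg.Agent.Co2Type.PresDef Cfsg.Agent.Bimonster.Tits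

/-- the letters `a = 0, c = 1, d = 2, b = 3, e = 4, f = 5` -/
def adj (i j : ℕ) : Bool :=
  [(0, 1), (1, 2), (2, 3), (2, 4), (4, 5)].contains (i, j) || [(0, 1), (1, 2), (2, 3), (2, 4), (4, 5)].contains (j, i)

/-- the moves for the diagram `E₆` -/
def rules : Rules where
  sq i := Nat.blt i 6
  cm i j := Nat.blt i 6 && Nat.blt j 6 && !adj i j && !Nat.beq i j
  br i j := Nat.blt i 6 && Nat.blt j 6 && adj i j

variable {G : Type*} [Group G] {a b c d e f g h i : G}

theorem braid_of {x y : G} (hx : x * x = 1) (hy : y * y = 1) (h : (x * y) ^ 3 = 1) : x * y * x = y * x * y := by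
  have e1 : x⁻¹ = x := inv_eq_of_mul_eq_one_left hx
  have e2 : y⁻¹ = y := inv_eq_of_mul_eq_one_left hy
  have h3 : (x * y * x) * (y * x * y) = 1 := by
    rw [← h]; simp only [pow_succ, pow_zero, one_mul, mul_assoc]
  have := eq_inv_of_mul_eq_one_left h3
  rw [mul_inv_rev, mul_inv_rev, e1, e2] at this
  rw [this, mul_assoc]

theorem valid (P : PG a b c d e f g h i) : Valid rules (lett a b c d e f g h i) 1 where
  sq k hk := by
    have hk' : k < 6 := by simpa [rules] using hk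
    interval_cases k
    · exact P.aa
    · exact P.cc
    · exact P.dd
    · exact P.bb
    · exact P.ee
    · exact P.ff
  cm k l hkl := by
    have h1 : k < 6 ∧ l < 6 := by
      simp only [rules, Bool.and_eq_true, Nat.blt_eq] at hkl
      exact ⟨hkl.1.1.1, hkl.1.1.2⟩
    obtain ⟨hk, hl⟩ := h1
    have key : ∀ x y : G, x * y = y * x → y * x = x * y := fun x y h => h.symm
    interval_cases k <;> interval_cases l <;> first
      | (exfalso; revert hkl; decide)
      | exact P.ab | exact P.ad | exact P.ae | exact P.af | exact P.bc | exact P.be | exact P.bf | exact P.ce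
      | exact P.cf | exact P.df | exact P.ab.symm | exact P.ad.symm | exact P.ae.symm | exact P.af.symm
      | exact P.bc.symm | exact P.be.symm | exact P.bf.symm | exact P.ce.symm | exact P.cf.symm | exact P.df.symm
  br k l hkl := by
    have h1 : k < 6 ∧ l < 6 := by
      simp only [rules, Bool.and_eq_true, Nat.blt_eq] at hkl
      exact ⟨hkl.1.1, hkl.1.2⟩
    obtain ⟨hk, hl⟩ := h1
    have ac := braid_of P.aa P.cc P.ac
    have cd := braid_of P.cc P.dd P.cd
    have db := braid_of P.dd P.bb P.db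
    have de := braid_of P.dd P.ee P.de
    have ef := braid_of P.ee P.ff P.ef
    interval_cases k <;> interval_cases l <;> first
      | (exfalso; revert hkl; decide)
      | exact ac | exact cd | exact db | exact de | exact ef
      | exact ac.symm | exact cd.symm | exact db.symm | exact de.symm | exact ef.symm
  central z := by rw [one_mul, mul_one]

theorem cert_cd (P : PG a b c d e f g h i) :
    ev (lett a b c d e f g h i) [2, 3, 4, 5, 1, 0, 5, 4, 3, 2, 0, 1] = ev (lett a b c d e f g h i) [1, 2] := by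
  have hn : run rules [10, 13, 15, 7, 10, 12, 4, 7, 9, 7, 9, 2, 6, 3, 0] 0 ([2, 3, 4, 5, 1, 0, 5, 4, 3, 2, 0, 1] ++ [2, 1]) = some (7, []) := by
    decide +kernel
  exact eq_of_run_reverse (valid P) (fun k hk => (valid P).sq k (by revert k; decide)) hn

theorem cert_ef (P : PG a b c d e f g h i) :
    ev (lett a b c d e f g h i) [5, 4, 3, 2, 0, 1, 2, 3, 4, 5, 1, 0, 5, 4, 3, 2, 5, 4, 3, 2, 0, 1, 2, 3, 4, 5, 1, 0, 5, 4, 3, 2] = ev (lett a b c d e f g h i) [4, 5] := by
  have hn : run rules [10, 14, 19, 22, 25, 27, 25, 27, 22, 24, 19, 21, 16, 18, 4, 7, 10, 13, 1, 4, 7, 10, 14, 18, 1, 4, 7, 10, 13, 15, 7, 10, 13, 15, 4, 7, 11, 15, 13, 16, 19, 21, 1, 4, 7, 10, 13, 16, 18, 15, 12, 9, 6, 3, 0] 0 ([5, 4, 3, 2, 0, 1, 2, 3, 4, 5, 1, 0, 5, 4, 3, 2, 5, 4, 3, 2, 0, 1, 2, 3, 4, 5, 1, 0, 5, 4, 3, 2] ++ [5, 4]) = some (17, []) := by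
    decide +kernel
  exact eq_of_run_reverse (valid P) (fun k hk => (valid P).sq k (by revert k; decide)) hn

theorem cert_db (P : PG a b c d e f g h i) :
    ev (lett a b c d e f g h i) [2, 3, 4, 5, 2, 3, 4, 5, 0, 1, 2, 3, 4, 5, 1, 0, 5, 4, 3, 2, 5, 4, 3, 2, 0, 1, 2, 3, 4, 5, 1, 0, 2, 3, 4, 5] = ev (lett a b c d e f g h i) [2, 3] := by
  have hn : run rules [40, 43, 45, 37, 40, 42, 34, 37, 39, 29, 34, 36, 22, 25, 28, 31, 33, 19, 4, 7, 11, 16, 20, 25, 28, 30, 28, 31, 33, 25, 13, 16, 20, 26, 30, 27, 22, 24, 10, 14, 19, 21, 7, 4, 8, 13, 16, 18, 15, 4, 7, 10, 12, 9, 7, 9, 4, 6, 3, 0] 0 ([2, 3, 4, 5, 2, 3, 4, 5, 0, 1, 2, 3, 4, 5, 1, 0, 5, 4, 3, 2, 5, 4, 3, 2, 0, 1, 2, 3, 4, 5, 1, 0, 2, 3, 4, 5] ++ [3, 2]) = some (19, []) := by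
    decide +kernel
  exact eq_of_run_reverse (valid P) (fun k hk => (valid P).sq k (by revert k; decide)) hn

theorem cert_de (P : PG a b c d e f g h i) :
    ev (lett a b c d e f g h i) [5, 4, 3, 2, 0, 1, 5, 4, 3, 2, 1, 0, 2, 3, 4, 5, 0, 1, 2, 3, 4, 5, 0, 1, 2, 3, 4, 5, 1, 0, 5, 4, 3, 2, 0, 1] = ev (lett a b c d e f g h i) [2, 4] := by
  have hn : run rules [16, 19, 22, 26, 31, 33, 10, 13, 4, 7, 1, 4, 8, 14, 20, 25, 28, 30, 16, 1, 4, 7, 11, 17, 22, 25, 27, 25, 27, 22, 24, 19, 21, 13, 16, 18, 7, 11, 15, 12, 1, 4, 7, 9, 2, 8, 13, 16, 19, 21, 19, 21, 16, 18, 13, 15, 10, 12, 9, 6, 3, 0] 0 ([5, 4, 3, 2, 0, 1, 5, 4, 3, 2, 1, 0, 2, 3, 4, 5, 0, 1, 2, 3, 4, 5, 0, 1, 2, 3, 4, 5, 1, 0, 5, 4, 3, 2, 0, 1] ++ [4, 2]) = some (19, []) := by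
    decide +kernel
  exact eq_of_run_reverse (valid P) (fun k hk => (valid P).sq k (by revert k; decide)) hn

theorem cert_u (P : PG a b c d e f g h i) : ev (lett a b c d e f g h i) [2, 3, 4, 5, 2, 3, 4, 5, 2, 3, 4, 5, 2, 3, 4, 5, 2, 3, 4, 5] = 1 := by
  have hn : run rules [10, 13, 17, 4, 8, 2, 7, 11, 16, 20, 25, 27, 14, 19, 22, 24, 5, 10, 13, 17, 21, 18, 7, 11, 15, 1, 5, 10, 12, 9, 1, 4, 6, 3, 0] 0 [2, 3, 4, 5, 2, 3, 4, 5, 2, 3, 4, 5, 2, 3, 4, 5, 2, 3, 4, 5] = some (10, []) := by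
    decide +kernel
  have := eq_of_run (valid P) hn
  rwa [one_pow] at this

theorem two_gen_of (P : PG a b c d e f g h i) (hgen : closure {a, b, c, d, e, f, g, h, i} = (⊤ : Subgroup G)) :
    ∃ x y : G, closure ({x, y} : Set G) = ⊤ := by
  have hcd := cert_cd P
  have hef := cert_ef P
  have hdb := cert_db P
  have hde := cert_de P
  have hu5 := cert_u P
  obtain ⟨u, hu⟩ : ∃ u, u = d * b * e * f := ⟨_, rfl⟩
  obtain ⟨t, ht⟩ : ∃ t, t = a * c := ⟨_, rfl⟩
  have inv : ∀ {x : G}, x * x = 1 → x⁻¹ = x := fun h => inv_eq_of_mul_eq_one_left h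
  have hui : u⁻¹ = f * e * b * d := by
    rw [hu]; simp only [mul_inv_rev, inv P.dd, inv P.bb, inv P.ee, inv P.ff, mul_assoc]
  have hti : t⁻¹ = c * a := by rw [ht, mul_inv_rev, inv P.aa, inv P.cc]
  have hcd' : u * t⁻¹ * u⁻¹ * t = c * d := by
    simpa [lett, hu, ht, mul_assoc, inv P.aa, inv P.bb, inv P.cc, inv P.dd, inv P.ee, inv P.ff] using hcd
  have hef' : u⁻¹ * t * u * t⁻¹ * u⁻¹ * u⁻¹ * t * u * t⁻¹ * u⁻¹ = e * f := by
    simpa [lett, hu, ht, mul_assoc, inv P.aa, inv P.bb, inv P.cc, inv P.dd, inv P.ee, inv P.ff] using hef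
  have hdb' : u * u * t * u * t⁻¹ * u⁻¹ * u⁻¹ * t * u * t⁻¹ * u = d * b := by
    simpa [lett, hu, ht, mul_assoc, inv P.aa, inv P.bb, inv P.cc, inv P.dd, inv P.ee, inv P.ff] using hdb
  have hde' : u⁻¹ * t * u⁻¹ * t⁻¹ * u * t * u * t * u * t⁻¹ * u⁻¹ * t = d * e := by
    simpa [lett, hu, ht, mul_assoc, inv P.aa, inv P.bb, inv P.cc, inv P.dd, inv P.ee, inv P.ff] using hde
  have hu5' : u ^ 5 = 1 := by
    simpa [lett, hu, pow_succ, mul_assoc] using hu5
  refine ⟨h * u, g * t, ?_⟩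
  set H := closure ({h * u, g * t} : Set G) with hH
  have hx : h * u ∈ H := subset_closure (Set.mem_insert _ _)
  have hy : g * t ∈ H := subset_closure (Set.mem_insert_of_mem _ rfl)
  have cm : ∀ {z x y : G}, z * x = x * z → z * y = y * z → z * (x * y) = (x * y) * z := by
    intro z x y h1 h2
    rw [← mul_assoc, h1, mul_assoc, h2, ← mul_assoc]
  have hhu : h * u = u * h := by
    rw [hu]; exact cm (cm (cm P.dh.symm P.bh.symm) P.eh.symm) P.fh.symm
  have hgt : g * t = t * g := by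
    rw [ht]; exact cm P.ag.symm P.cg.symm
  have ht3 : t ^ 3 = 1 := by rw [ht]; exact P.ac
  obtain ⟨hhH, huH⟩ := split_mem (m := 2) (n := 5) hhu (by rw [pow_two, P.hh]) hu5' (by decide) hx
  obtain ⟨hgH, htH⟩ := split_mem (m := 2) (n := 3) hgt (by rw [pow_two, P.gg]) ht3 (by decide) hy
  have huI := inv_mem huH
  have htI := inv_mem htH
  have hcdH : c * d ∈ H := by
    rw [← hcd']; exact mul_mem (mul_mem (mul_mem huH htI) huI) htH
  have hefH : e * f ∈ H := by
    rw [← hef']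
    exact mul_mem (mul_mem (mul_mem (mul_mem (mul_mem (mul_mem (mul_mem (mul_mem (mul_mem huI htH) huH) htI) huI) huI)
      htH) huH) htI) huI
  have hdbH : d * b ∈ H := by
    rw [← hdb']
    exact mul_mem (mul_mem (mul_mem (mul_mem (mul_mem (mul_mem (mul_mem (mul_mem (mul_mem (mul_mem huH huH) htH) huH)
      htI) huI) huI) htH) huH) htI) huH
  have hdeH : d * e ∈ H := by
    rw [← hde']
    exact mul_mem (mul_mem (mul_mem (mul_mem (mul_mem (mul_mem (mul_mem (mul_mem (mul_mem (mul_mem (mul_mem huI htH)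
      huI) htI) huH) htH) huH) htH) huH) htI) huI) htH
  have hacH : a * c ∈ H := by rw [← ht]; exact htH
  -- the odd element `f`
  have hfe : f * e ∈ H := by
    have := inv_mem hefH
    rwa [mul_inv_rev, inv P.ee, inv P.ff] at this
  have hfg : f * g ∈ H := by
    have h1 : g * (f * e) * g * (e * f) = f * g := by
      have h2 : g * f * g * f = f * g := by
        have h3 : (f * g) * (f * g) * (f * g) = 1 := by rw [← P.fg]; simp only [pow_succ, pow_zero, one_mul]
        have h4 : f * g * (g * f) = 1 := by rw [mul_assoc, ← mul_assoc g, P.gg, one_mul, P.ff]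
        have h5 : g * f = (f * g)⁻¹ := eq_inv_of_mul_eq_one_right h4
        rw [mul_assoc (g * f), h5, ← mul_inv_rev]
        exact inv_eq_of_mul_eq_one_right h3
      calc g * (f * e) * g * (e * f) = g * f * (e * g) * e * f := by simp only [mul_assoc]
        _ = g * f * g * (e * e) * f := by rw [P.eg]; simp only [mul_assoc]
        _ = g * f * g * f := by rw [P.ee, mul_one]
        _ = f * g := h2
    rw [← h1]
    exact mul_mem (mul_mem (mul_mem hgH hfe) hgH) hefH
  have hfH : f ∈ H := by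
    have := mul_mem hfg hgH
    rwa [mul_assoc, P.gg, mul_one] at this
  have heH : e ∈ H := by
    have := mul_mem hefH hfH
    rwa [mul_assoc, P.ff, mul_one] at this
  have hdH : d ∈ H := by
    have := mul_mem hdeH heH
    rwa [mul_assoc, P.ee, mul_one] at this
  have hbH : b ∈ H := by
    have := mul_mem hdH hdbH
    rwa [← mul_assoc, P.dd, one_mul] at this
  have hcH : c ∈ H := by
    have := mul_mem hcdH hdH
    rwa [mul_assoc, P.dd, mul_one] at this
  have haH : a ∈ H := by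
    have := mul_mem hacH hcH
    rwa [mul_assoc, P.cc, mul_one] at this
  have hiH : i ∈ H := by
    rw [← P.r1]
    exact H.pow_mem (mul_mem (mul_mem (mul_mem (mul_mem (mul_mem hdH hfH) heH) hgH) hdH) hgH) 3
  rw [eq_top_iff, ← hgen, closure_le]
  intro z hz
  simp only [Set.mem_insert_iff, Set.mem_singleton_iff] at hz
  rcases hz with rfl | rfl | rfl | rfl | rfl | rfl | rfl | rfl | rfl <;> assumption

theorem twoGen {G : Type*} [Group G] (h : Spor.IsoCo2 G) : ∃ x y : G, closure ({x, y} : Set G) = ⊤ := by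
  obtain ⟨e⟩ := h
  obtain ⟨_, _, _, _, _, _, _, _, _, P, -, hgen, -⟩ := Cfsg.Agent.Co2Type.Co2Gen.exists_gens
  exact two_gen_congr e (two_gen_of P hgen)

end Cfsg.Agent.H136.Gen2.Co2
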