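import Cfsg.Agent.Schreier.CoThreeCent
import Cfsg.Agent.H136.Gen2.Cox

/-!
# 2-generation of `Co₃` (helper136)

`gx`, `gy`, `gd` of orders 23, 11, 2 generate the group and `gd` commutes with `gy`.
-/

set_option autoImplicit false

namespace Cfsg.Agent.H136.Gen2.Co3

open Subgroup Cfsg.Agent.Schreier.CoThreeCent Cfsg.Agent.LeechPack.X552

theorem two_gen_G3 : ∃ x y : G3, closure ({x, y} : Set G3) = ⊤ := by
  refine ⟨gx, gd * gy, ?_⟩
  set H := closure ({gx, gd * gy} : Set G3) with hH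
  have hx : gx ∈ H := subset_closure (Set.mem_insert _ _)
  have hy : gd * gy ∈ H := subset_closure (Set.mem_insert_of_mem _ rfl)
  obtain ⟨h1, h2⟩ := split_mem (m := 2) (n := 11) gd_mul_gy (by rw [pow_two, gd_mul_gd]) gy_pow (by decide) hy
  rw [eq_top_iff, ← closure_eq_top, closure_le]
  rintro z (rfl | rfl | rfl)
  · exact hx
  · exact h2
  · exact h1

theorem twoGen {G : Type*} [Group G] (h : Spor.IsoCo3 G) : ∃ x y : G, closure ({x, y} : Set G) = ⊤ := by
  obtain ⟨e⟩ := h
  obtain ⟨e'⟩ := isoCo3_G3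
  exact two_gen_congr (e.trans e'.symm) two_gen_G3

end Cfsg.Agent.H136.Gen2.Co3
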