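import Cfsg.Agent.H136.TwoGen
import Cfsg.Agent.H136.Gen2.Cox

/-!
# 2-generation of `Fi₂₄'` (helper136)
-/

set_option autoImplicit false

namespace Cfsg.Agent.H136.Gen2

open Subgroup

variable {G : Type*} [Group G]

theorem lp_inv {n : ℕ} {s : ℕ → G} (h : H346.CoxA.Rel n s) {l : List ℕ} (hl : ∀ i ∈ l, i < n) :
    (lp s l)⁻¹ = lp s l.reverse := by
  induction l with
  | nil => simp [lp]
  | cons a l ih =>
    have ha : a < n := hl a (by simp)
    have h1 := ih (fun i hi => hl i (by simp [hi]))
    have h2 : (s a)⁻¹ = s a := inv_eq_of_mul_eq_one_left (h.sq a ha)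
    have h3 : lp s (a :: l) = s a * lp s l := by simp [lp]
    have h4 : lp s (a :: l).reverse = lp s l.reverse * s a := by simp [lp]
    rw [h3, mul_inv_rev, h1, h2, h4]

/-- If all products of two elements of a generating set of involutions are in `H`, then `H` contains the
commutator subgroup. -/
theorem commutator_le_of_even {ι : Type*} (g : ι → G) (hg : closure (Set.range g) = ⊤)
    (hsq : ∀ a, g a * g a = 1) {H : Subgroup G} (a₀ : ι) (h : ∀ a, g a₀ * g a ∈ H) : commutator G ≤ H := by
  have hinv : ∀ a, (g a)⁻¹ = g a := fun a => inv_eq_of_mul_eq_one_left (hsq a)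
  have h2 : ∀ a, g a * g a₀ ∈ H := by
    intro a
    have := inv_mem (h a)
    rwa [mul_inv_rev, hinv, hinv] at this
  have h3 : ∀ a b, g a * g b ∈ H := by
    intro a b
    have := mul_mem (h2 a) (h b)
    rwa [mul_assoc, ← mul_assoc (g a₀), hsq, one_mul] at this
  have hcov : ∀ x : G, x ∈ H ∨ g a₀ * x ∈ H := by
    intro x
    have hx : x ∈ closure (Set.range g) := by rw [hg]; trivial
    induction hx using closure_induction_left with
    | one => exact Or.inl (one_mem _)
    | mul_left x hx y _ ih =>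
      obtain ⟨a, rfl⟩ := hx
      rcases ih with ih | ih
      · right
        rw [← mul_assoc]; exact mul_mem (h3 _ _) ih
      · left
        have := mul_mem (h3 a a₀) ih
        rwa [mul_assoc, ← mul_assoc (g a₀), hsq, one_mul] at this
    | inv_mul_cancel x hx y _ ih =>
      obtain ⟨a, rfl⟩ := hx
      rw [hinv]
      rcases ih with ih | ih
      · right
        rw [← mul_assoc]; exact mul_mem (h3 _ _) ih
      · left
        have := mul_mem (h3 a a₀) ih
        rwa [mul_assoc, ← mul_assoc (g a₀), hsq, one_mul] at this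
  -- conjugation by `g a₀` preserves `H` or `H` is everything
  by_cases htop : g a₀ ∈ H
  · intro x _
    rcases hcov x with hx | hx
    · exact hx
    · have := mul_mem (inv_mem htop) hx
      rwa [inv_mul_cancel_left] at this
  · have hidx : H.index = 2 := by
      rw [Subgroup.index_eq_two_iff]
      refine ⟨g a₀, fun b => ?_⟩
      rcases hcov b⁻¹ with hb | hb
      · have hb' : b ∈ H := by simpa using inv_mem hb
        refine Or.inr ⟨hb', fun hc => htop ?_⟩
        have := mul_mem (inv_mem hb') hc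
        rwa [inv_mul_cancel_left] at this
      · have hb' : b * g a₀ ∈ H := by
          have := inv_mem hb
          rwa [mul_inv_rev, inv_inv, hinv] at this
        refine Or.inl ⟨hb', fun hc => htop ?_⟩
        have := mul_mem (inv_mem hc) hb'
        rwa [inv_mul_cancel_left] at this
    have hn : H.Normal := normal_of_index_eq_two hidx
    have hc : Nat.card (G ⧸ H) = 2 := hidx
    have hcomm : ∀ a b : G ⧸ H, a * b = b * a := by
      have : Fact (Nat.Prime 2) := ⟨Nat.prime_two⟩
      have : IsCyclic (G ⧸ H) := isCyclic_of_prime_card hc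
      exact fun a b => (IsCyclic.isMulCommutative (α := G ⧸ H)).is_comm.comm a b
    rw [_root_.commutator_def, Subgroup.commutator_le]
    intro a _ b _
    rw [commutatorElement_def, ← QuotientGroup.eq_one_iff]
    show ((a : G ⧸ H) * (b : G ⧸ H) * (a : G ⧸ H)⁻¹ * (b : G ⧸ H)⁻¹) = 1
    rw [hcomm (a : G ⧸ H) b]; group

/-! ### `Fi₂₄'` -/

namespace Fi24

open Spor.Fi24 (Gen)

/-- the chain `l, k, a, b, c, d, e, f, g, j` -/
def c : ℕ → Gen
  | 0 => .l | 1 => .k | 2 => .a | 3 => .b | 4 => .c | 5 => .d | 6 => .e | 7 => .f | 8 => .g | _ => .j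

theorem rel : H346.CoxA.Rel 10 (fun i => (PresentedGroup.of (c i) : Spor.Fi24)) :=
  rel_of (by decide) (by decide) (by decide)

theorem sq (a : Gen) : (PresentedGroup.of a : Spor.Fi24) * PresentedGroup.of a = 1 := by
  cases a <;> exact sq_rel (by decide)

/-- all generators have the same image in the abelianization -/
theorem ab_eq (a : Gen) : Abelianization.of (PresentedGroup.of a : Spor.Fi24) =
    Abelianization.of (PresentedGroup.of Gen.d : Spor.Fi24) := by
  have key : ∀ {x y : Gen}, x ∈ Spor.coxNodes Spor.Fi24.edges → y ∈ Spor.coxNodes Spor.Fi24.edges →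
      Spor.coxLabel Spor.Fi24.edges x y = 3 → Abelianization.of (PresentedGroup.of x : Spor.Fi24) =
        Abelianization.of (PresentedGroup.of y : Spor.Fi24) := by
    intro x y hx hy hl
    have h := congrArg Abelianization.of (braid_rel (extra := Spor.Fi24.extra) hx hy hl)
    simp only [map_mul] at h
    rw [mul_comm (Abelianization.of (PresentedGroup.of y : Spor.Fi24)) (Abelianization.of
      (PresentedGroup.of x : Spor.Fi24))] at h
    exact mul_left_cancel h
  have k1 := @key .l .k (by decide) (by decide) (by decide)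
  have k2 := @key .k .a (by decide) (by decide) (by decide)
  have k3 := @key .a .b (by decide) (by decide) (by decide)
  have k4 := @key .b .c (by decide) (by decide) (by decide)
  have k5 := @key .c .d (by decide) (by decide) (by decide)
  have k6 := @key .e .d (by decide) (by decide) (by decide)
  have k7 := @key .f .e (by decide) (by decide) (by decide)
  have k8 := @key .g .f (by decide) (by decide) (by decide)
  have k9 := @key .j .g (by decide) (by decide) (by decide)
  have k10 := @key .h .d (by decide) (by decide) (by decide)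
  have k11 := @key .i .h (by decide) (by decide) (by decide)
  cases a
  · rw [k1, k2, k3, k4, k5]
  · rw [k2, k3, k4, k5]
  · rw [k3, k4, k5]
  · rw [k4, k5]
  · rw [k5]
  · rfl
  · rw [k6]
  · rw [k7, k6]
  · rw [k8, k7, k6]
  · rw [k9, k8, k7, k6]
  · rw [k10]
  · rw [k11, k10]

theorem mem_comm {x : Spor.Fi24} (h : Abelianization.of x = 1) : x ∈ commutator Spor.Fi24 := by
  rwa [← MonoidHom.mem_ker, Abelianization.ker_of] at h

theorem two_gen : ∃ x y : Spor.Fi24', closure ({x, y} : Set Spor.Fi24') = ⊤ := by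
  let s : ℕ → Spor.Fi24 := fun i => PresentedGroup.of (c i)
  let h : Spor.Fi24 := PresentedGroup.of Gen.h
  let i : Spor.Fi24 := PresentedGroup.of Gen.i
  have hs : H346.CoxA.Rel 10 s := rel
  have hh : h * h = 1 := sq _
  have hi : i * i = 1 := sq _
  have hhi : h * i * h = i * h * i := braid_rel (by decide) (by decide) (by decide)
  have hc : ∀ k < 10, i * s k = s k * i :=
    fun k hk => comm_rel (by decide) (by revert k; decide) (by revert k; decide)
  have hc' : ∀ k < 10, k ≠ 5 → h * s k = s k * h :=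
    fun k hk hk5 => comm_rel (by decide) (by revert k; decide) (by revert k; decide)
  apply TwoGen.of_ambient
  let w : Spor.Fi24 := lp s [2, 3, 4, 5, 6, 7, 8, 9]
  let ρ : Spor.Fi24 := lp s [6, 7, 8, 9]
  let σ : Spor.Fi24 := lp s [0, 1, 0, 1, 2, 1]
  have hab : ∀ a, Abelianization.of (s a) = Abelianization.of (PresentedGroup.of Gen.d : Spor.Fi24) :=
    fun a => ab_eq _
  have hah : Abelianization.of h = Abelianization.of (PresentedGroup.of Gen.d : Spor.Fi24) := ab_eq _
  have hai : Abelianization.of i = Abelianization.of (PresentedGroup.of Gen.d : Spor.Fi24) := ab_eq _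
  have hτ : Abelianization.of (PresentedGroup.of Gen.d : Spor.Fi24) *
      Abelianization.of (PresentedGroup.of Gen.d : Spor.Fi24) = 1 := by rw [← map_mul, sq, map_one]
  have hτ' : ∀ z : Abelianization Spor.Fi24, Abelianization.of (PresentedGroup.of Gen.d : Spor.Fi24) *
      (Abelianization.of (PresentedGroup.of Gen.d : Spor.Fi24) * z) = z := by
    intro z; rw [← mul_assoc, hτ, one_mul]
  refine ⟨(i * s 0) * w, (h * i) * (ρ * σ), ?_, ?_, ?_⟩
  · apply mem_comm
    simp only [w, lp, List.map_cons, List.map_nil, List.prod_cons, List.prod_nil, map_mul, hab, hai, mul_assoc,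
      hτ', mul_one, hτ]
  · apply mem_comm
    simp only [ρ, σ, lp, List.map_cons, List.map_nil, List.prod_cons, List.prod_nil, map_mul, hab, hai, hah,
      mul_assoc, hτ', mul_one, hτ]
  set H := closure ({(i * s 0) * w, (h * i) * (ρ * σ)} : Set Spor.Fi24) with hH
  have hx : (i * s 0) * w ∈ H := subset_closure (Set.mem_insert _ _)
  have hy : (h * i) * (ρ * σ) ∈ H := subset_closure (Set.mem_insert_of_mem _ rfl)
  -- first element
  have hw9 : w ^ 9 = 1 := by
    show (lp s _) ^ 9 = 1
    rw [lp_pow]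
    have := word_eq hs (List.replicate 9 [2, 3, 4, 5, 6, 7, 8, 9]).flatten [] (by decide) (by decide)
      (by decide +kernel)
    rw [this]; simp [lp]
  have hiw : i * w = w * i := lp_comm (fun k hk => hc k (by revert k; decide))
  have h0w : s 0 * w = w * s 0 := lp_comm (fun k hk => hs.comm 0 k (by revert k; decide) (by revert k; decide))
  have hc1 : (i * s 0) * w = w * (i * s 0) := by
    rw [mul_assoc, h0w, ← mul_assoc, hiw, mul_assoc]
  have hi0 : (i * s 0) ^ 2 = 1 := by
    rw [pow_two, mul_assoc, ← mul_assoc (s 0), ← hc 0 (by decide), mul_assoc i, hs.sq 0 (by decide), mul_one, hi]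
  obtain ⟨hi0H, hwH⟩ := split_mem (m := 2) (n := 9) hc1 hi0 hw9 (by decide) hx
  -- second element
  have hρ5 : ρ ^ 5 = 1 := by
    show (lp s _) ^ 5 = 1
    rw [lp_pow]
    have := word_eq hs (List.replicate 5 [6, 7, 8, 9]).flatten [] (by decide) (by decide) (by decide +kernel)
    rw [this]; simp [lp]
  have hσ2 : σ ^ 2 = 1 := by
    show (lp s _) ^ 2 = 1
    rw [lp_pow]
    have := word_eq hs (List.replicate 2 [0, 1, 0, 1, 2, 1]).flatten [] (by decide) (by decide) (by decide +kernel)
    rw [this]; simp [lp]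
  have hρσ : ρ * σ = σ * ρ := by
    have := word_eq hs ([6, 7, 8, 9] ++ [0, 1, 0, 1, 2, 1]) ([0, 1, 0, 1, 2, 1] ++ [6, 7, 8, 9]) (by decide)
      (by decide) (by decide +kernel)
    rwa [lp_append, lp_append] at this
  have hρσ10 : (ρ * σ) ^ 10 = 1 := by
    have h1 : Commute ρ σ := hρσ
    rw [h1.mul_pow, show (10 : ℕ) = 5 * 2 from rfl, pow_mul, hρ5, one_pow, mul_comm 5 2, pow_mul, hσ2, one_pow,
      one_mul]
  have hcρ : (h * i) * ρ = ρ * (h * i) := by
    have h1 : h * ρ = ρ * h := lp_comm (fun k hk => hc' k (by revert k; decide) (by revert k; decide))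
    have h2 : i * ρ = ρ * i := lp_comm (fun k hk => hc k (by revert k; decide))
    rw [mul_assoc, h2, ← mul_assoc, h1, mul_assoc]
  have hcσ : (h * i) * σ = σ * (h * i) := by
    have h1 : h * σ = σ * h := lp_comm (fun k hk => hc' k (by revert k; decide) (by revert k; decide))
    have h2 : i * σ = σ * i := lp_comm (fun k hk => hc k (by revert k; decide))
    rw [mul_assoc, h2, ← mul_assoc, h1, mul_assoc]
  have hc2 : (h * i) * (ρ * σ) = (ρ * σ) * (h * i) := by
    rw [← mul_assoc, hcρ, mul_assoc, hcσ, ← mul_assoc]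
  obtain ⟨hhiH, hρσH⟩ := split_mem (m := 3) (n := 10) hc2 (order_three hh hi hhi) hρσ10 (by decide) hy
  obtain ⟨hρH, hσH⟩ := split_mem (m := 5) (n := 2) hρσ hρ5 hσ2 (by decide) hρσH
  -- the alternating group of degree 11
  have h01 : s 0 * s 1 ∈ H := by
    have hP : lp s [2, 3, 4, 5] ∈ H := by
      have h1 : lp s [2, 3, 4, 5] * ρ = w := by
        show lp s _ * lp s _ = lp s _
        rw [← lp_append]; rfl
      have : lp s [2, 3, 4, 5] = w * ρ⁻¹ := by rw [← h1, mul_inv_cancel_right]
      rw [this]; exact mul_mem hwH (inv_mem hρH)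
    have hg : lp s ([2, 3, 4, 5] ++ [0, 1, 0, 1, 2, 1] ++ [9, 8, 7, 6] ++ [2, 3, 4, 5]) ∈ H := by
      rw [lp_append, lp_append, lp_append]
      refine mul_mem (mul_mem (mul_mem hP hσH) ?_) hP
      have : lp s [9, 8, 7, 6] = ρ⁻¹ := by
        show _ = (lp s _)⁻¹
        rw [lp_inv hs (by decide)]; rfl
      rw [this]; exact inv_mem hρH
    have hC : lp s ([2, 3, 4, 5] ++ [6, 7, 8, 9] ++ [5, 4, 3, 2] ++ [9, 8, 7, 6]) ∈ H := by
      rw [lp_append, lp_append, lp_append]
      have h1 : lp s [9, 8, 7, 6] = ρ⁻¹ := by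
        show _ = (lp s _)⁻¹
        rw [lp_inv hs (by decide)]; rfl
      have h2 : lp s [5, 4, 3, 2] = (lp s [2, 3, 4, 5])⁻¹ := by
        rw [lp_inv hs (by decide)]; rfl
      rw [h1, h2]
      exact mul_mem (mul_mem (mul_mem hP hρH) (inv_mem hP)) (inv_mem hρH)
    have h3 : lp s [0, 1] = lp s (([2, 3, 4, 5] ++ [0, 1, 0, 1, 2, 1] ++ [9, 8, 7, 6] ++ [2, 3, 4, 5]) ++
        ([2, 3, 4, 5] ++ [6, 7, 8, 9] ++ [5, 4, 3, 2] ++ [9, 8, 7, 6]) ++
        ([2, 3, 4, 5] ++ [0, 1, 0, 1, 2, 1] ++ [9, 8, 7, 6] ++ [2, 3, 4, 5]).reverse) :=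
      word_eq hs _ _ (by decide) (by decide) (by decide +kernel)
    have h4 : s 0 * s 1 = lp s [0, 1] := by simp [lp]
    rw [h4, h3, lp_append, lp_append, ← lp_inv hs (l := [2, 3, 4, 5] ++ [0, 1, 0, 1, 2, 1] ++ [9, 8, 7, 6] ++
      [2, 3, 4, 5]) (by decide)]
    exact mul_mem (mul_mem hg hC) (inv_mem hg)
  -- the eleven-cycle
  have hU : H346.CoxA.Rel.r s 10 ∈ H := by
    have : H346.CoxA.Rel.r s 10 = (s 0 * s 1) * w := by
      simp [H346.CoxA.Rel.r, w, lp, mul_assoc]
    rw [this]; exact mul_mem h01 hwH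
  have hkk : ∀ k, k + 1 < 10 → s k * s (k + 1) ∈ H := by
    intro k
    induction k with
    | zero => intro _; exact h01
    | succ k ih =>
      intro hk
      have h1 := hs.r_shift 10 k (by omega) le_rfl
      have h2 := hs.r_shift 10 (k + 1) (by omega) le_rfl
      have h3 : s (k + 1) * s (k + 1 + 1) = H346.CoxA.Rel.r s 10 * (s k * s (k + 1)) * (H346.CoxA.Rel.r s 10)⁻¹ := by
        rw [← mul_assoc, h1, mul_assoc (s (k + 1)), h2, ← mul_assoc, mul_inv_cancel_right]
      rw [h3]
      exact mul_mem (mul_mem hU (ih (by omega))) (inv_mem hU)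
  have h0k : ∀ k, k < 10 → s 0 * s k ∈ H := by
    intro k
    induction k with
    | zero => intro _; rw [hs.sq 0 (by decide)]; exact one_mem _
    | succ k ih =>
      intro hk
      have := mul_mem (ih (by omega)) (hkk k hk)
      rwa [mul_assoc, ← mul_assoc (s k), hs.sq k (by omega), one_mul] at this
  have h0i : s 0 * i ∈ H := by rw [← hc 0 (by decide)]; exact hi0H
  have h0h : s 0 * h ∈ H := by
    have h1 := mul_mem h0i (inv_mem hhiH)
    have h2 : (h * i)⁻¹ = i * h := by
      rw [mul_inv_rev, inv_eq_of_mul_eq_one_left hh, inv_eq_of_mul_eq_one_left hi]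
    rwa [h2, mul_assoc, ← mul_assoc i, hi, one_mul] at h1
  refine commutator_le_of_even (fun a => (PresentedGroup.of a : Spor.Fi24))
    (PresentedGroup.closure_range_of _) sq (H := H) Gen.l ?_
  intro a
  cases a
  · exact h0k 0 (by decide)
  · exact h0k 1 (by decide)
  · exact h0k 2 (by decide)
  · exact h0k 3 (by decide)
  · exact h0k 4 (by decide)
  · exact h0k 5 (by decide)
  · exact h0k 6 (by decide)
  · exact h0k 7 (by decide)
  · exact h0k 8 (by decide)
  · exact h0k 9 (by decide)
  · exact h0h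
  · exact h0i

theorem twoGen {G : Type*} [Group G] (h : Spor.IsoFi24' G) : ∃ x y : G, closure ({x, y} : Set G) = ⊤ :=
  two_gen_congr h.some two_gen

end Fi24

end Cfsg.Agent.H136.Gen2
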