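import Cfsg.Agent.Bimonster.Main
import Cfsg.Agent.H136.Gen2.Cox

/-!
# 2-generation of groups with the Coxeter relations of `Y553` (helper136)
-/

set_option autoImplicit false

namespace Cfsg.Agent.H136.Gen2.M

open Subgroup Cfsg.Agent.Bimonster

/-- the long chain `f₁, …, b₁, a, b₂, …, f₂` -/
def c : ℕ → ℕ
  | 0 => 5 | 1 => 4 | 2 => 3 | 3 => 2 | 4 => 1 | 5 => 0 | 6 => 6 | 7 => 7 | 8 => 8 | 9 => 9 | _ => 10

/-- the third arm -/
def c' : ℕ → ℕ
  | 0 => 11 | 1 => 12 | _ => 13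

variable {P : Type*} [Group P]

theorem rel_of {y : ℕ → P} (hy : CoxRel 14 y) {c : ℕ → ℕ} {n : ℕ} (hn : ∀ i < n, c i < 14)
    (hb : ∀ i < n, i + 1 < n → adjB (c i) (c (i + 1)) = true)
    (hc : ∀ j < n, ∀ i < j, i + 1 < j → adjB (c i) (c j) = false) :
    H346.CoxA.Rel n (fun i => y (c i)) where
  sq i hi := hy.sq _ (hn i hi)
  braid i hi := hy.br _ (hn i (by omega)) _ (hn (i + 1) hi) (hb i (by omega) hi)
  comm i j hij hj := hy.cm _ (hn i (by omega)) _ (hn j hj) (hc j hj i (by omega) hij)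

theorem two_gen_of {y : ℕ → P} (hy : CoxRel 14 y) (hgen : closure (nodes 14 y) = ⊤) :
    ∃ a b : P, closure ({a, b} : Set P) = ⊤ := by
  let s : ℕ → P := fun i => y (c i)
  let p : ℕ → P := fun i => y (c' i)
  have hs : H346.CoxA.Rel 11 s := rel_of hy (by decide) (by decide) (by decide)
  have hp : H346.CoxA.Rel 3 p := rel_of hy (by decide) (by decide) (by decide)
  have hc : ∀ k < 11, p 2 * s k = s k * p 2 :=
    fun k hk => hy.cm _ (by decide) _ (by revert k; decide) (by revert k; decide)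
  have h0 : p 0 * s 0 = s 0 * p 0 := hy.cm _ (by decide) _ (by decide) (by decide)
  have h1 : p 1 * s 0 = s 0 * p 1 := hy.cm _ (by decide) _ (by decide) (by decide)
  refine ⟨p 2 * lp s [1, 2, 3, 4, 5, 6, 7, 8, 9, 10], (p 0 * p 1) * s 0, ?_⟩
  set H := closure ({p 2 * lp s [1, 2, 3, 4, 5, 6, 7, 8, 9, 10], (p 0 * p 1) * s 0} : Set P) with hH
  have hx : p 2 * lp s [1, 2, 3, 4, 5, 6, 7, 8, 9, 10] ∈ H := subset_closure (Set.mem_insert _ _)
  have hyy : (p 0 * p 1) * s 0 ∈ H := subset_closure (Set.mem_insert_of_mem _ rfl)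
  have hcu : p 2 * lp s [1, 2, 3, 4, 5, 6, 7, 8, 9, 10] = lp s [1, 2, 3, 4, 5, 6, 7, 8, 9, 10] * p 2 :=
    lp_comm (fun k hk => hc k (by revert k; decide))
  have hu : (lp s [1, 2, 3, 4, 5, 6, 7, 8, 9, 10]) ^ 11 = 1 := by
    rw [lp_pow]
    have := word_eq hs (List.replicate 11 [1, 2, 3, 4, 5, 6, 7, 8, 9, 10]).flatten [] (by decide) (by decide)
      (by decide +kernel)
    rw [this]; simp [lp]
  obtain ⟨hiH, huH⟩ := split_mem (m := 2) (n := 11) hcu (by rw [pow_two]; exact hp.sq 2 (by decide)) hu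
    (by decide) hx
  have hc3 : (p 0 * p 1) * s 0 = s 0 * (p 0 * p 1) := by
    rw [mul_assoc, h1, ← mul_assoc, h0, mul_assoc]
  obtain ⟨hqH, h0H⟩ := split_mem (m := 3) (n := 2) hc3
    (order_three (hp.sq 0 (by decide)) (hp.sq 1 (by decide)) (hp.braid 0 (by decide)))
    (by rw [pow_two]; exact hs.sq 0 (by decide)) (by decide) hyy
  have e1 : p 0 = ((p 0 * p 1) * p 2 * (p 0 * p 1)⁻¹) * ((p 0 * p 1) * (p 0 * p 1) * p 2 * (p 0 * p 1)⁻¹ *
      (p 0 * p 1)⁻¹) * ((p 0 * p 1) * p 2 * (p 0 * p 1)⁻¹) := by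
    have e2 : (p 0 * p 1)⁻¹ = p 1 * p 0 := by
      apply inv_eq_of_mul_eq_one_right
      rw [mul_assoc, ← mul_assoc (p 1), hp.sq 1 (by decide), one_mul, hp.sq 0 (by decide)]
    rw [e2]
    have := word_eq hp [0] [0, 1, 2, 1, 0, 0, 1, 0, 1, 2, 1, 0, 1, 0, 0, 1, 2, 1, 0] (by decide) (by decide)
      (by decide +kernel)
    simpa [lp, mul_assoc] using this
  have hp0 : p 0 ∈ H := by
    have a1 : (p 0 * p 1) * p 2 * (p 0 * p 1)⁻¹ ∈ H := mul_mem (mul_mem hqH hiH) (inv_mem hqH)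
    have a2 : (p 0 * p 1) * (p 0 * p 1) * p 2 * (p 0 * p 1)⁻¹ * (p 0 * p 1)⁻¹ ∈ H :=
      mul_mem (mul_mem (mul_mem (mul_mem hqH hqH) hiH) (inv_mem hqH)) (inv_mem hqH)
    rw [e1]; exact mul_mem (mul_mem a1 a2) a1
  have hp1 : p 1 ∈ H := by
    have : p 1 = (p 0)⁻¹ * (p 0 * p 1) := by rw [inv_mul_cancel_left]
    rw [this]; exact mul_mem (inv_mem hp0) hqH
  have hs1 : s 1 ∈ H := by
    have e3 : s 1 = s 0 * (lp s [1, 2, 3, 4, 5, 6, 7, 8, 9, 10] * s 0 * (lp s [1, 2, 3, 4, 5, 6, 7, 8, 9, 10])⁻¹) *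
        s 0 := by
      have e4 : (lp s [1, 2, 3, 4, 5, 6, 7, 8, 9, 10])⁻¹ = lp s [10, 9, 8, 7, 6, 5, 4, 3, 2, 1] := by
        apply inv_eq_of_mul_eq_one_right
        rw [← lp_append]
        have := word_eq hs ([1, 2, 3, 4, 5, 6, 7, 8, 9, 10] ++ [10, 9, 8, 7, 6, 5, 4, 3, 2, 1]) [] (by decide)
          (by decide) (by decide +kernel)
        rw [this]; simp [lp]
      rw [e4]
      have := word_eq hs [1] [0, 1, 2, 3, 4, 5, 6, 7, 8, 9, 10, 0, 10, 9, 8, 7, 6, 5, 4, 3, 2, 1, 0] (by decide)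
        (by decide) (by decide +kernel)
      simpa [lp, mul_assoc] using this
    rw [e3]
    exact mul_mem (mul_mem h0H (mul_mem (mul_mem huH h0H) (inv_mem huH))) h0H
  have hch := chain_mem hs.shift hs1 (H := H) (by
    have : H346.CoxA.Rel.r (fun i => s (i + 1)) 10 = lp s [1, 2, 3, 4, 5, 6, 7, 8, 9, 10] := by
      simp [H346.CoxA.Rel.r, lp, mul_assoc]
    rw [this]; exact huH)
  rw [eq_top_iff, ← hgen, closure_le]
  rintro _ ⟨i, hi, rfl⟩
  interval_cases i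
  · exact hch 4 (by decide)
  · exact hch 3 (by decide)
  · exact hch 2 (by decide)
  · exact hch 1 (by decide)
  · exact hch 0 (by decide)
  · exact h0H
  · exact hch 5 (by decide)
  · exact hch 6 (by decide)
  · exact hch 7 (by decide)
  · exact hch 8 (by decide)
  · exact hch 9 (by decide)
  · exact hp0
  · exact hp1
  · exact hiH

theorem PM_two_gen : ∃ a b : PM, closure ({a, b} : Set PM) = ⊤ := two_gen_of xM_prel.cox xM_gen

end Cfsg.Agent.H136.Gen2.M
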