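import Cfsg.Agent.MonsterP.Equiv
import Cfsg.Agent.H136.Gen2.MCox

/-!
# 2-generation of the Monster (helper136)
-/

set_option autoImplicit false

namespace Cfsg.Agent.H136.Gen2.M

theorem twoGen {G : Type*} [Group G] (h : Spor.IsoM G) : ∃ x y : G, Subgroup.closure ({x, y} : Set G) = ⊤ :=
  two_gen_congr (h.some.trans MonsterP.Equiv.equivM.some) PM_two_gen

end Cfsg.Agent.H136.Gen2.M
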