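import Mathlib
import Cfsg.Agent.H555.NineteenNormal

/-!
# The prime-pair criterion for 2-generation (helper136)

`exists_section`: a finite group whose order is divisible exactly once by `p` and by `r`, without commuting elements
of orders `p` and `r` (and `p ∤ r - 1`, `r ∤ p - 1`), has a simple section of order divisible by `p` and `r`.
-/

set_option autoImplicit false

namespace Cfsg.Agent.H136.Gen2.Pair

open Subgroup

universe u

/-- An element of order `p` normalising a subgroup of prime order `r`, `p ∤ r - 1`, centralises it. -/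
theorem comm_of_norm {G : Type*} [Group G] [Finite G] {p r : ℕ} (hr : r.Prime) (hpr : p.Coprime (r - 1)) {R : Subgroup G}
    (hR : Nat.card R = r) {g : G} (hg : g ^ p = 1) (hn : g ∈ normalizer (R : Set G)) : ∀ y ∈ R, g * y = y * g := by
  have : Fact r.Prime := ⟨hr⟩
  have hcyc : IsCyclic R := isCyclic_of_prime_card hR
  have hcard : Nat.card (MulAut R) = r - 1 := by
    rw [IsCyclic.card_mulAut, hR, Nat.totient_prime hr]
  let φ := R.normalizerMonoidHom
  have h1 : φ ⟨g, hn⟩ ^ p = 1 := by
    rw [← map_pow]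
    have : (⟨g, hn⟩ : normalizer (R : Set G)) ^ p = 1 := Subtype.ext hg
    rw [this, map_one]
  have h2 : φ ⟨g, hn⟩ ^ (r - 1) = 1 := by rw [← hcard]; exact pow_card_eq_one'
  have h3 : φ ⟨g, hn⟩ = 1 := by
    have h4 : orderOf (φ ⟨g, hn⟩) ∣ 1 := by
      rw [← hpr]
      exact Nat.dvd_gcd (orderOf_dvd_of_pow_eq_one h1) (orderOf_dvd_of_pow_eq_one h2)
    exact orderOf_eq_one_iff.1 (Nat.dvd_one.1 h4)
  intro y hy
  have h5 : (φ ⟨g, hn⟩) ⟨y, hy⟩ = ⟨y, hy⟩ := by rw [h3]; rfl
  have h6 : g * y * g⁻¹ = y := congrArg Subtype.val h5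
  calc g * y = (g * y * g⁻¹) * g := by group
    _ = y * g := by rw [h6]

/-- the bad case -/
theorem bad {H : Type*} [Group H] [Finite H] {p r : ℕ} (hp : p.Prime) (hr : r.Prime)
    (hpr : ¬ p ∣ r - 1) (hr2 : ¬ r ^ 2 ∣ Nat.card H)
    (hc : ∀ x y : H, orderOf x = p → orderOf y = r → x * y ≠ y * x) (M : Subgroup H) [M.Normal]
    (h1 : p ∣ M.index) (h2 : r ∣ Nat.card M) : False := by
  have : Fact r.Prime := ⟨hr⟩
  have : Fact p.Prime := ⟨hp⟩
  obtain ⟨R⟩ : Nonempty (Sylow r M) := inferInstance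
  let R' : Subgroup H := (R : Subgroup M).map M.subtype
  have hRc : Nat.card R' = r := by
    have e1 : Nat.card R' = Nat.card (R : Subgroup M) :=
      (Nat.card_congr ((R : Subgroup M).equivMapOfInjective M.subtype M.subtype_injective).toEquiv).symm
    rw [e1, R.card_eq_multiplicity]
    have h3 : (Nat.card M).factorization r = 1 := by
      have h4 : 1 ≤ (Nat.card M).factorization r := (hr.dvd_iff_one_le_factorization Nat.card_pos.ne').1 h2
      have h5 : ¬ 2 ≤ (Nat.card M).factorization r := by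
        intro h
        apply hr2
        exact (((hr.pow_dvd_iff_le_factorization Nat.card_pos.ne').2 h)).trans M.card_subgroup_dvd_card
      omega
    rw [h3, pow_one]
  have hF : normalizer (R' : Set H) ⊔ M = ⊤ := R.normalizer_sup_eq_top
  -- `p` divides the order of the normaliser
  have hpn : p ∣ Nat.card (normalizer (R' : Set H)) := by
    have h3 : M.index ∣ Nat.card (normalizer (R' : Set H)) := by
      have h4 : M.relIndex (normalizer (R' : Set H)) = M.index := by
        rw [← Subgroup.relIndex_sup_right, hF, relIndex_top_right]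
      rw [← h4]
      exact Subgroup.relIndex_dvd_card _ _
    exact h1.trans h3
  obtain ⟨⟨g, hg⟩, hgo⟩ := exists_prime_orderOf_dvd_card' p hpn
  have hgo' : orderOf g = p := by rw [← hgo]; exact (orderOf_injective (Subgroup.subtype _) (Subgroup.subtype_injective _) ⟨g, hg⟩).symm ▸ rfl
  obtain ⟨⟨y, hy⟩, hyo⟩ := exists_prime_orderOf_dvd_card' (G := R') r (by rw [hRc])
  have hyo' : orderOf y = r := by rw [← hyo]; exact (orderOf_injective (Subgroup.subtype _) (Subgroup.subtype_injective _) ⟨y, hy⟩).symm ▸ rfl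
  have hcop : p.Coprime (r - 1) := (Nat.Prime.coprime_iff_not_dvd hp).2 hpr
  exact hc g y hgo' hyo' (comm_of_norm hr hcop hRc (hgo' ▸ pow_orderOf_eq_one g) hg y hy)

/-- **A simple section of order divisible by both primes.** -/
theorem exists_section {p r : ℕ} (hp : p.Prime) (hr : r.Prime) (hpr : ¬ p ∣ r - 1) (hrp : ¬ r ∣ p - 1) :
    ∀ (n : ℕ) (H : Type u) [Group H] [Finite H], Nat.card H = n → ¬ p ^ 2 ∣ Nat.card H → ¬ r ^ 2 ∣ Nat.card H →
      p ∣ Nat.card H → r ∣ Nat.card H →
      (∀ x y : H, orderOf x = p → orderOf y = r → x * y ≠ y * x) →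
      ∃ (L : Type u) (_ : Group L) (_ : Finite L) (K : Subgroup H) (f : K →* L), Function.Surjective f ∧
        IsSimpleGroup L ∧ p ∣ Nat.card L ∧ r ∣ Nat.card L := by
  intro n
  induction n using Nat.strong_induction_on with
  | _ n ih =>
  intro H _ _ hn hp2 hr2 hpH hrH hc
  have hnt : Nontrivial H := by
    rw [← Finite.one_lt_card_iff_nontrivial]
    exact hp.one_lt.trans_le (Nat.le_of_dvd Nat.card_pos hpH)
  obtain ⟨M, hM, hMt, hs⟩ := H555.NineteenNormal.exists_simple_quotient H
  have hcard : Nat.card M * M.index = Nat.card H := M.card_mul_index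
  have hidx : M.index = Nat.card (H ⧸ M) := rfl
  have hc' : ∀ x y : H, orderOf x = r → orderOf y = p → x * y ≠ y * x := fun x y hx hy h => hc y x hy hx h.symm
  by_cases h1 : p ∣ M.index
  · by_cases h2 : r ∣ M.index
    · refine ⟨H ⧸ M, inferInstance, inferInstance, ⊤, (QuotientGroup.mk' M).comp (Subgroup.subtype ⊤), ?_, hs,
        hidx ▸ h1, hidx ▸ h2⟩
      intro q
      obtain ⟨x, rfl⟩ := QuotientGroup.mk'_surjective M q
      exact ⟨⟨x, mem_top x⟩, rfl⟩
    · exfalso
      refine bad hp hr hpr hr2 hc M h1 ?_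
      rw [← hcard] at hrH
      exact (hr.dvd_mul.1 hrH).resolve_right h2
  · have hpM : p ∣ Nat.card M := by
      rw [← hcard] at hpH
      exact (hp.dvd_mul.1 hpH).resolve_right h1
    by_cases h2 : r ∣ M.index
    · exact (bad hr hp hrp hp2 hc' M h2 hpM).elim
    · have hrM : r ∣ Nat.card M := by
        rw [← hcard] at hrH
        exact (hr.dvd_mul.1 hrH).resolve_right h2
      have hlt : Nat.card M < n := by
        rw [← hn, ← hcard]
        have h3 : M.index ≠ 1 := fun h => hMt (Subgroup.index_eq_one.1 h)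
        have h4 : M.index ≠ 0 := Subgroup.index_ne_zero_of_finite
        have h5 : 0 < Nat.card M := Nat.card_pos
        nlinarith [show 2 ≤ M.index by omega]
      obtain ⟨L, _, _, K, f, hf, hL, hpL, hrL⟩ := ih (Nat.card M) hlt M rfl
        (fun h => hp2 (h.trans M.card_subgroup_dvd_card)) (fun h => hr2 (h.trans M.card_subgroup_dvd_card)) hpM hrM
        (fun x y hx hy hxy => hc x y
          ((orderOf_injective M.subtype M.subtype_injective x).trans hx)
          ((orderOf_injective M.subtype M.subtype_injective y).trans hy) (congrArg Subtype.val hxy))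
      refine ⟨L, inferInstance, inferInstance, K.map M.subtype,
        f.comp (K.equivMapOfInjective M.subtype M.subtype_injective).symm.toMonoidHom, ?_, hL, hpL, hrL⟩
      exact hf.comp (K.equivMapOfInjective M.subtype M.subtype_injective).symm.surjective

/-- **The prime-pair criterion**: `x` of order `p` and `y` of order `r` generate `S`. -/
theorem gen_of_pair {S : Type u} [Group S] [Finite S] {p r : ℕ} (hp : p.Prime) (hr : r.Prime)
    (hpr : ¬ p ∣ r - 1) (hrp : ¬ r ∣ p - 1) (hp2 : ¬ p ^ 2 ∣ Nat.card S) (hr2 : ¬ r ^ 2 ∣ Nat.card S)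
    (hc : ∀ x y : S, orderOf x = p → orderOf y = r → x * y ≠ y * x)
    (hL : ∀ (L : Type u) [Group L] [Finite L] [IsSimpleGroup L], Nat.card L ∣ Nat.card S → p ∣ Nat.card L →
      r ∣ Nat.card L → Nat.card L = Nat.card S)
    {H : Subgroup S} (h1 : p ∣ Nat.card H) (h2 : r ∣ Nat.card H) : H = ⊤ := by
  obtain ⟨L, _, _, K, f, hf, hLs, hpL, hrL⟩ := exists_section hp hr hpr hrp (Nat.card H) H rfl
    (fun h => hp2 (h.trans H.card_subgroup_dvd_card)) (fun h => hr2 (h.trans H.card_subgroup_dvd_card)) h1 h2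
    (fun x y hx hy hxy => hc x y
      ((orderOf_injective H.subtype H.subtype_injective x).trans hx)
      ((orderOf_injective H.subtype H.subtype_injective y).trans hy) (congrArg Subtype.val hxy))
  have hd : Nat.card L ∣ Nat.card K := Subgroup.card_dvd_of_surjective f hf
  have hK : Nat.card K ∣ Nat.card H := K.card_subgroup_dvd_card
  have hH : Nat.card H ∣ Nat.card S := H.card_subgroup_dvd_card
  have he := hL L ((hd.trans hK).trans hH) hpL hrL
  apply Subgroup.eq_top_of_card_eq
  apply le_antisymm (Nat.le_of_dvd Nat.card_pos hH)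
  rw [← he]
  exact Nat.le_of_dvd Nat.card_pos (hd.trans hK)

theorem closure_eq_top {S : Type u} [Group S] [Finite S] {p r : ℕ} (hp : p.Prime) (hr : r.Prime)
    (hpr : ¬ p ∣ r - 1) (hrp : ¬ r ∣ p - 1) (hp2 : ¬ p ^ 2 ∣ Nat.card S) (hr2 : ¬ r ^ 2 ∣ Nat.card S)
    (hpS : p ∣ Nat.card S) (hrS : r ∣ Nat.card S)
    (hc : ∀ x y : S, orderOf x = p → orderOf y = r → x * y ≠ y * x)
    (hL : ∀ (L : Type u) [Group L] [Finite L] [IsSimpleGroup L], Nat.card L ∣ Nat.card S → p ∣ Nat.card L →
      r ∣ Nat.card L → Nat.card L = Nat.card S) : ∃ x y : S, closure ({x, y} : Set S) = ⊤ := by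
  have : Fact r.Prime := ⟨hr⟩
  have : Fact p.Prime := ⟨hp⟩
  obtain ⟨x, hx⟩ := exists_prime_orderOf_dvd_card' (G := S) p hpS
  obtain ⟨y, hy⟩ := exists_prime_orderOf_dvd_card' (G := S) r hrS
  refine ⟨x, y, gen_of_pair hp hr hpr hrp hp2 hr2 hc hL ?_ ?_⟩
  · rw [← hx]
    have h1 : x ∈ closure ({x, y} : Set S) := subset_closure (Set.mem_insert _ _)
    exact Subgroup.orderOf_dvd_natCard _ h1
  · rw [← hy]
    have h1 : y ∈ closure ({x, y} : Set S) := subset_closure (Set.mem_insert_of_mem _ rfl)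
    exact Subgroup.orderOf_dvd_natCard _ h1

end Cfsg.Agent.H136.Gen2.Pair
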